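import Groth.Prelude.Def_Grpd
import Groth.Agent.GrpdLib.HomField
import Groth.Agent.FibDim.RelDim
import Groth.Agent.H23.TopDim
import Groth.Agent.S1621
import Mathlib.FieldTheory.IsAlgClosed.AlgebraicClosure

/-!
# Groupoids over a field are equidimensional
-/

set_option autoImplicit false
set_option backward.isDefEq.respectTransparency false
set_option backward.isDefEq.respectTransparency.types false

universe u

open CategoryTheory CategoryTheory.Limits AlgebraicGeometry Grpd TopologicalSpace Order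

namespace Groth.Agent.GrpdEquidim

theorem fibreDimAt_of_subsingleton {X Y : Scheme.{u}} (f : X ⟶ Y) [Subsingleton ↥Y] (x : X) :
    FlatMor.fibreDimAt f x = FlatMor.localDim ↥X x := by
  let e : ↥(f.fiber (f x)) ≃ₜ ↥X := (f.fiberHomeo (f x)).trans
    ((Homeomorph.setCongr (Set.eq_univ_of_forall fun z => Subsingleton.elim _ _)).trans (Homeomorph.Set.univ _))
  have he : e (f.asFiber x) = x := by
    show ((f.fiberHomeo (f x)) (f.asFiber x)).1 = x
    rw [Scheme.Hom.asFiber, Homeomorph.apply_symm_apply]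
  conv_rhs => rw [← he]
  exact (FibDim.localDim_homeomorph e _).symm

variable {S : Scheme.{u}} (G : GroupoidScheme S) {T : Scheme.{u}}

/-- Precomposition with an arrow. -/
noncomputable def precomp (x : T ⟶ G.R) (a b : T ⟶ G.U) (ha : x ≫ G.s = a) (hb : x ≫ G.t = b) :
    pullback G.s b ⟶ pullback G.s a :=
  pullback.lift (pullback.lift (pullback.fst G.s b) (pullback.snd G.s b ≫ x)
      (by rw [Category.assoc, hb, pullback.condition]) ≫ G.c) (pullback.snd G.s b)
    (by rw [G.comp_s, Category.assoc, ha])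

theorem precomp_precomp (x : T ⟶ G.R) (a b : T ⟶ G.U) (ha : x ≫ G.s = a) (hb : x ≫ G.t = b) :
    precomp G x a b ha hb ≫ precomp G (x ≫ G.i) b a (by rw [Category.assoc, G.i_s, hb])
      (by rw [Category.assoc, G.i_t, ha]) = 𝟙 _ := by
  have hc1 : ∀ (y : pullback G.s b ⟶ G.R) (z : pullback G.s b ⟶ T) (h : y ≫ G.s = z ≫ b),
      pullback.lift (pullback.lift y (z ≫ x) (by rw [Category.assoc, hb, h]) ≫ G.c) (z ≫ x ≫ G.i)
        (by rw [G.comp_s, Category.assoc, Category.assoc, Category.assoc, G.i_t]) ≫ G.c = y := fun y z h => by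
    have hb' : (z ≫ x) ≫ G.t = y ≫ G.s := by rw [Category.assoc, hb, h]
    refine (G.assoc y (z ≫ x) (z ≫ x ≫ G.i) hb'.symm
      (by rw [Category.assoc, Category.assoc, Category.assoc, G.i_t])).trans ?_
    refine (GrpdLib.c_congr G _ rfl ?_).trans (G.comp_e y)
    refine (GrpdLib.c_congr G _ rfl (Category.assoc z x G.i).symm).trans ((G.comp_i (z ≫ x)).trans ?_)
    rw [← Category.assoc, hb', Category.assoc]
  refine pullback.hom_ext ?_ ?_
  · rw [Category.id_comp, Category.assoc]
    refine Eq.trans ?_ (hc1 (pullback.fst G.s b) (pullback.snd G.s b) pullback.condition)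
    simp only [precomp, pullback.lift_fst]
    rw [← Category.assoc]
    congr 1
    refine pullback.hom_ext ?_ ?_
    · rw [Category.assoc, pullback.lift_fst, pullback.lift_fst, pullback.lift_fst]
    · rw [Category.assoc, pullback.lift_snd, pullback.lift_snd, pullback.lift_snd_assoc]
  · rw [Category.id_comp, Category.assoc]
    simp only [precomp, pullback.lift_snd]

theorem isIso_precomp (x : T ⟶ G.R) (a b : T ⟶ G.U) (ha : x ≫ G.s = a) (hb : x ≫ G.t = b) :
    IsIso (precomp G x a b ha hb) := by
  refine ⟨precomp G (x ≫ G.i) b a (by rw [Category.assoc, G.i_s, hb]) (by rw [Category.assoc, G.i_t, ha]),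
    precomp_precomp G x a b ha hb, ?_⟩
  have hii : (x ≫ G.i) ≫ G.i = x := by
    have key : ∀ (w : T ⟶ G.R), (w ≫ G.i) ≫ G.i = w := fun w => by
      set v := w ≫ G.i with hv
      have hvt : v ≫ G.t = w ≫ G.s := by rw [hv, Category.assoc, G.i_t]
      have hvs : v ≫ G.s = w ≫ G.t := by rw [hv, Category.assoc, G.i_s]
      have h3 := G.assoc (v ≫ G.i) v w (by rw [Category.assoc, G.i_s]) hvs
      calc v ≫ G.i = pullback.lift (v ≫ G.i) ((v ≫ G.i) ≫ G.s ≫ G.e)
            (by simp only [Category.assoc, G.e_t, Category.comp_id]) ≫ G.c := (G.comp_e _).symm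
        _ = _ := GrpdLib.c_congr G _ rfl (show (v ≫ G.i) ≫ G.s ≫ G.e = pullback.lift v w hvs ≫ G.c by
              have h4 : pullback.lift v w hvs ≫ G.c = w ≫ G.s ≫ G.e := G.i_comp w
              rw [h4, Category.assoc, reassoc_of% G.i_s, ← Category.assoc, hvt, Category.assoc])
        _ = _ := h3.symm
        _ = pullback.lift (w ≫ G.t ≫ G.e) w (by simp only [Category.assoc, G.e_s, Category.comp_id]) ≫ G.c :=
              GrpdLib.c_congr G _ ((G.i_comp v).trans (by rw [← Category.assoc, hvs, Category.assoc])) rfl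
        _ = w := G.e_comp w
    exact key x
  have h := precomp_precomp G (x ≫ G.i) b a (by rw [Category.assoc, G.i_s, hb]) (by rw [Category.assoc, G.i_t, ha])
  simp only [hii] at h
  exact h

theorem precomp_unit (x : T ⟶ G.R) (a b : T ⟶ G.U) (ha : x ≫ G.s = a) (hb : x ≫ G.t = b) :
    pullback.lift (b ≫ G.e) (𝟙 T) (by rw [Category.assoc, G.e_s, Category.comp_id, Category.id_comp]) ≫
      precomp G x a b ha hb =
    pullback.lift x (𝟙 T) (by rw [ha, Category.id_comp]) := by
  refine pullback.hom_ext ?_ ?_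
  · simp only [precomp, Category.assoc, pullback.lift_fst]
    rw [← Category.assoc]
    refine Eq.trans ?_ (G.e_comp x)
    congr 1
    refine pullback.hom_ext ?_ ?_
    · rw [Category.assoc, pullback.lift_fst, pullback.lift_fst, pullback.lift_fst, reassoc_of% hb]
    · rw [Category.assoc, pullback.lift_snd, pullback.lift_snd, pullback.lift_snd_assoc, Category.id_comp]
  · simp only [precomp, Category.assoc, pullback.lift_snd]

variable {k : Type u} [Field k] (eU : G.U ≅ Spec (CommRingCat.of k))
variable [LocallyOfFiniteType G.s]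

include eU in
/-- The local dimension is the same everywhere. -/
theorem localDim_eq (r : G.R) :
    FlatMor.localDim ↥G.R r = FlatMor.localDim ↥G.R (G.e (eU.inv (IsLocalRing.closedPoint k))) := by
  haveI : Subsingleton G.U := eU.hom.homeomorph.subsingleton
  let Ω := AlgebraicClosure (G.R.residueField r)
  let x : Spec (CommRingCat.of Ω) ⟶ G.R :=
    Spec.map (CommRingCat.ofHom (algebraMap (G.R.residueField r) Ω)) ≫ G.R.fromSpecResidueField r
  let pt : Spec (CommRingCat.of Ω) := IsLocalRing.closedPoint Ω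
  have hx : x pt = r := by
    rw [Scheme.Hom.comp_apply]
    exact Scheme.fromSpecResidueField_apply r _
  haveI : Subsingleton (Spec (CommRingCat.of Ω)) := inferInstanceAs (Subsingleton (PrimeSpectrum Ω))
  let a := x ≫ G.s
  let b := x ≫ G.t
  let τ := precomp G x a b rfl rfl
  haveI : IsIso τ := isIso_precomp G x a b rfl rfl
  let P0 : Spec (CommRingCat.of Ω) ⟶ pullback G.s b :=
    pullback.lift (b ≫ G.e) (𝟙 _) (by rw [Category.assoc, G.e_s, Category.comp_id, Category.id_comp])
  let P1 : Spec (CommRingCat.of Ω) ⟶ pullback G.s a :=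
    pullback.lift x (𝟙 _) (by rw [Category.id_comp])
  have hP : P0 ≫ τ = P1 := precomp_unit G x a b rfl rfl
  have h1 : ∀ z : ↥(pullback G.s a), FlatMor.localDim ↥(pullback G.s a) z =
      FlatMor.localDim ↥G.R (pullback.fst G.s a z) := fun z => by
    rw [← fibreDimAt_of_subsingleton (pullback.snd G.s a), FibDim.fibreDimAt_baseChange (IsPullback.of_hasPullback G.s a),
      fibreDimAt_of_subsingleton]
  have h2 : ∀ z : ↥(pullback G.s b), FlatMor.localDim ↥(pullback G.s b) z =
      FlatMor.localDim ↥G.R (pullback.fst G.s b z) := fun z => by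
    rw [← fibreDimAt_of_subsingleton (pullback.snd G.s b), FibDim.fibreDimAt_baseChange (IsPullback.of_hasPullback G.s b),
      fibreDimAt_of_subsingleton]
  have e1 : pullback.fst G.s a (P1 pt) = r := by
    rw [← Scheme.Hom.comp_apply, pullback.lift_fst, hx]
  have e0 : pullback.fst G.s b (P0 pt) = G.e (eU.inv (IsLocalRing.closedPoint k)) := by
    rw [← Scheme.Hom.comp_apply, pullback.lift_fst, Scheme.Hom.comp_apply]
    exact congrArg G.e (Subsingleton.elim _ _)
  rw [← e1, ← h1, ← e0, ← h2, ← hP, Scheme.Hom.comp_apply]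
  exact FibDim.localDim_homeomorph τ.homeomorph (P0 pt)

include eU in
theorem localDim_eq_dim (r : G.R) : FlatMor.localDim ↥G.R r = topologicalKrullDim ↥G.R := by
  rw [H23.TopDim.dim_eq_iSup_localDim]
  refine le_antisymm (le_iSup (fun x => FlatMor.localDim ↥G.R x) r) (iSup_le fun x => ?_)
  rw [localDim_eq G eU x, localDim_eq G eU r]

include eU in
theorem dim_component (Z : Set G.R) (hZ : Z ∈ irreducibleComponents ↥G.R) :
    topologicalKrullDim ↥Z = topologicalKrullDim ↥G.R := by
  refine le_antisymm (topologicalKrullDim_subspace_le _ _) ?_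
  let f := G.s ≫ eU.hom
  letI : G.R.Over (Spec (CommRingCat.of k)) := ⟨f⟩
  haveI : LocallyOfFiniteType (G.R ↘ Spec (CommRingCat.of k)) := inferInstanceAs (LocallyOfFiniteType f)
  have hZc : IsClosed Z := isClosed_of_mem_irreducibleComponents Z hZ
  obtain ⟨z, hz⟩ : ∃ z, IsGenericPoint z Z := ⟨_, hZ.1.isGenericPoint_genericPoint hZc⟩
  obtain ⟨b, hb, ⟨η, hη, hdeg⟩, -⟩ := VarDim.exists_deg_add_stalk f z
  have hηz : η = z := by
    have h1 : Z ⊆ closure {η} := fun w hw => (hη.trans (hz.specializes hw)).mem_closure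
    have h2 : closure {η} ⊆ Z := hZ.2 isIrreducible_singleton.closure h1
    exact ((hz.specializes (h2 (subset_closure rfl))).antisymm hη).eq.symm
  rw [hηz] at hdeg
  rw [← localDim_eq_dim G eU z, S1621.localDim_eq k G.R z b hb]
  obtain rfl : b = 0 := by omega
  rw [add_zero]
  have h3 : (VarDim.deg f z : ℕ∞) = height z := (VarDim.height_eq_deg f z).symm
  show (((VarDim.deg f z : ℕ) : ℕ∞) : WithBot ℕ∞) ≤ _
  rw [h3, Order.height_eq_krullDim_Iic]
  have hmem : ∀ y : Set.Iic z, y.1 ∈ Z := fun y => hz.specializes_iff_mem.1 y.2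
  let φ : Set.Iic z → IrreducibleCloseds ↥Z := fun y =>
    ⟨closure {⟨y.1, hmem y⟩}, isIrreducible_singleton.closure, isClosed_closure⟩
  have hφ : ∀ y y' : Set.Iic z, φ y ≤ φ y' ↔ y ≤ y' := fun y y' => by
    constructor
    · intro h
      have h4 : (⟨y.1, hmem y⟩ : ↥Z) ∈ closure {(⟨y'.1, hmem y'⟩ : ↥Z)} := h (subset_closure rfl)
      exact (specializes_iff_mem_closure.2 h4).map continuous_subtype_val
    · intro h
      refine closure_minimal (Set.singleton_subset_iff.2 (specializes_iff_mem_closure.1 ?_)) isClosed_closure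
      exact Topology.IsInducing.subtypeVal.specializes_iff.1 h
  refine krullDim_le_of_strictMono φ fun y y' h => ?_
  rw [lt_iff_le_not_ge] at h ⊢
  exact ⟨(hφ y y').2 h.1, fun h' => h.2 ((hφ y' y).1 h')⟩

include eU in
theorem ringKrullDim_stalk (r : G.R) (hr : IsClosed ({r} : Set G.R)) :
    ringKrullDim (G.R.presheaf.stalk r) = topologicalKrullDim ↥G.R := by
  let f := G.s ≫ eU.hom
  letI : G.R.Over (Spec (CommRingCat.of k)) := ⟨f⟩
  haveI : LocallyOfFiniteType (G.R ↘ Spec (CommRingCat.of k)) := inferInstanceAs (LocallyOfFiniteType f)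
  obtain ⟨b, hb, -⟩ := VarDim.exists_deg_add_stalk f r
  rw [← localDim_eq_dim G eU r, S1621.localDim_eq k G.R r b hb, hb]
  have h0 : VarDim.deg (G.R ↘ Spec (CommRingCat.of k)) r = 0 := (VarDim.closedPoint_iff_deg_eq_zero f r).1 hr
  rw [h0, zero_add]

end Groth.Agent.GrpdEquidim
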